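import Cfsg.Agent.H511.Ore.WRow_m3
import Cfsg.Agent.H122.MinDeg
import Cfsg.Agent.Prune
set_option linter.all false
prune_inst 0x7f00000000000000000000000000000000000000000000000000000000000000000000000000000000000000000000000000000000000000000000000000000000000000000000000000000000000000003fffffffffffffffffffffffffffbeffbdffffffff
open scoped Cfsg.Agent.FastGrp

/-!
# ORE (S2443), degree bounds: tools (helper133)

* `minDeg_of_rep` : `H511.Ore.MinDeg` from the representation form;
* `has_of_le`, `has_of_eq` : the element of a column from its centralizer.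
-/

set_option autoImplicit false

open Cfsg Subgroup

namespace Cfsg.Agent.H133.Ore

open Cfsg.Agent.H653.Sieve Cfsg.Agent.H651.Two Cfsg.Agent.Characters.Core
open Cfsg.Agent.H511.Ore (MinDeg NoDeg DegOff)

universe u

variable {G : Type u} [Group G] [Finite G]

/-- the degree bound from the representation form -/
theorem minDeg_of_irr [IsSimpleGroup G] (hG : ¬ IsMulCommutative G) {b : ℕ}
    (h : ∀ (k : ℕ) (ρ : Representation ℂ G (Fin k → ℂ)), ρ.IsIrreducible → 2 ≤ k → b ≤ k) : MinDeg G b := by
  intro χ h1
  have h2 := H511.Ore.two_le_charDegree hG χ h1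
  obtain ⟨n, ρ, hρ, hχ⟩ := χ.2
  have h3 : (χ : G → ℂ) 1 = n := by
    rw [← hχ, Representation.char_one]
    simp
  have h4 := Blocks.Knorr.charDegree_eq χ.2
  rw [h3] at h4
  have h5 : n = charDegree (χ : G → ℂ) := by exact_mod_cast h4
  rw [← h5] at h2 ⊢
  exact h n ρ hρ h2


theorem minDeg_of_rep [IsSimpleGroup G] (hG : ¬ IsMulCommutative G) {b : ℕ} (h : H122.MinDeg G b) : MinDeg G b :=
  minDeg_of_irr hG fun k ρ hρ hk => h.irr k ρ hρ hk

theorem not_comm_of [IsSimpleGroup G] (h : ¬ (Nat.card G).Prime) : ¬ IsMulCommutative G := by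
  intro hc
  let _ : CommGroup G := { (inferInstance : Group G) with mul_comm := hc.is_comm.comm }
  exact h IsSimpleGroup.prime_card

omit [Finite G] in
theorem noDeg_nil : NoDeg G [] := fun _ => List.not_mem_nil

omit [Finite G] in
theorem has_of_eq {d : CD} (hr : d.r.Prime) {x : G} (hx : orderOf x = d.r)
    (hc : Nat.card (centralizer ({x} : Set G)) = d.r * d.k) : d.Has G := ⟨hr, x, hx, hc⟩

/-- an element of prime order -/
theorem exists_order {N : ℕ} (hN : Nat.card G = N) {p : ℕ} (hp : p.Prime) (hd : p ∣ N) : ∃ x : G, orderOf x = p := by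
  have := Fact.mk hp
  exact exists_prime_orderOf_dvd_card' (G := G) p (by rw [hN]; exact hd)

end Cfsg.Agent.H133.Ore
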