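import Cfsg.Agent.H121.Chr
import Cfsg.Agent.SuzThree.NormElts
import Cfsg.Agent.FastGrp
import Cfsg.Agent.Prune
set_option linter.all false
open scoped Cfsg.Agent.FastGrp

-- part: H133/Ore/Orb
section
/-!
# ORE (S2443): degree bounds from the orbits on the characters of an elementary abelian subgroup (helper133)

`x : (Fin n → ZMod p) → G` a parametrised elementary abelian subgroup, `g j` elements normalising it with matrices `M j`
(`g j * x e_i * (g j)⁻¹ = x (M j i)`).  The characters are coded by natural numbers below `p ^ n`; a tree (parents,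
generators, depths, roots) is checked by the kernel.

* `Tree.le_finrank` : a nontrivial representation has degree at least the size of the smallest orbit;
* `Tree.const` : the multiplicities are constant on the orbits.
-/

set_option autoImplicit false
set_option linter.unusedSectionVars false

namespace Cfsg.Agent.H133.Ore.Orb

open Module Cfsg.Agent.H121.Wt Cfsg.Agent.H121.Chr

/-! ### digits -/

/-- the digit -/
def dg (p c i : ℕ) : ℕ := c / p ^ i % p

theorem dg_inj {p : ℕ} (hp : 0 < p) : ∀ (n : ℕ) {c c' : ℕ}, c < p ^ n → c' < p ^ n →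
    (∀ i < n, dg p c i = dg p c' i) → c = c'
  | 0, c, c', h, h', _ => by
    rw [pow_zero] at h h'; omega
  | n + 1, c, c', h, h', hd => by
    have h0 := hd 0 (Nat.succ_pos n)
    simp only [dg, pow_zero, Nat.div_one] at h0
    have h1 : c / p = c' / p := by
      refine dg_inj hp n (Nat.div_lt_of_lt_mul (by rw [← pow_succ']; exact h))
        (Nat.div_lt_of_lt_mul (by rw [← pow_succ']; exact h')) fun i hi => ?_
      have h2 := hd (i + 1) (Nat.succ_lt_succ hi)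
      simp only [dg, pow_succ', ← Nat.div_div_eq_div_mul] at h2
      exact h2
    rw [← Nat.div_add_mod c p, ← Nat.div_add_mod c' p, h0, h1]

variable {p n : ℕ} [hp : Fact p.Prime]

theorem sum_list {R : Type*} [AddCommMonoid R] (f : ℕ → R) : ∀ n : ℕ, ((List.range n).map f).sum = ∑ i : Fin n, f i
  | 0 => by simp
  | n + 1 => by
    rw [List.range_succ, List.map_append, List.sum_append, sum_list f n, Fin.sum_univ_castSucc]
    simp

/-- the vector of a code -/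
def dig (p n c : ℕ) : Fin n → ZMod p := fun i => (dg p c i : ZMod p)

theorem dig_inj {c c' : ℕ} (h : c < p ^ n) (h' : c' < p ^ n) (hd : dig p n c = dig p n c') : c = c' := by
  refine dg_inj hp.out.pos n h h' fun i hi => ?_
  have h1 := congrFun hd ⟨i, hi⟩
  simp only [dig] at h1
  have h2 := congrArg ZMod.val h1
  rw [ZMod.val_natCast_of_lt (show dg p c i < p from Nat.mod_lt _ hp.out.pos),
    ZMod.val_natCast_of_lt (show dg p c' i < p from Nat.mod_lt _ hp.out.pos)] at h2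
  exact h2

theorem dig_surj (w : Fin n → ZMod p) : ∃ c < p ^ n, dig p n c = w := by
  have h1 : Function.Injective (fun c : Fin (p ^ n) => dig p n c) := fun a b h => Fin.ext (dig_inj a.2 b.2 h)
  have h2 : Function.Bijective (fun c : Fin (p ^ n) => dig p n c) := by
    rw [Fintype.bijective_iff_injective_and_card]
    refine ⟨h1, ?_⟩
    rw [Fintype.card_fin, Fintype.card_fun, ZMod.card, Fintype.card_fin]
  obtain ⟨c, hc⟩ := h2.2 w
  exact ⟨c, c.2, hc⟩

/-! ### the characters -/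

/-- the character of a vector -/
noncomputable def lam (w : Fin n → ZMod p) : AddChar (Fin n → ZMod p) ℂ where
  toFun a := ZMod.stdAddChar (∑ i, w i * a i)
  map_zero_eq_one' := by simp
  map_add_eq_mul' a b := by
    rw [← AddChar.map_add_eq_mul, ← Finset.sum_add_distrib]
    congr 1
    exact Finset.sum_congr rfl fun i _ => by rw [Pi.add_apply, mul_add]

theorem lam_apply (w a : Fin n → ZMod p) : lam w a = ZMod.stdAddChar (∑ i, w i * a i) := rfl

theorem lam_single (w : Fin n → ZMod p) (i : Fin n) : lam w (Pi.single i 1) = ZMod.stdAddChar (w i) := by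
  rw [lam_apply]
  congr 1
  rw [Finset.sum_eq_single i (fun j _ hj => by rw [Pi.single_eq_of_ne hj, mul_zero]) (fun h => absurd (Finset.mem_univ i) h),
    Pi.single_eq_same, mul_one]

theorem lam_injective : Function.Injective (lam : (Fin n → ZMod p) → AddChar (Fin n → ZMod p) ℂ) := by
  intro w w' h
  funext i
  have h1 := congrArg (fun χ : AddChar (Fin n → ZMod p) ℂ => χ (Pi.single i 1)) h
  simp only [lam_single] at h1
  exact ZMod.injective_stdAddChar h1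

theorem exists_lam (χ : AddChar (Fin n → ZMod p) ℂ) : ∃ w, lam w = χ := by
  have h2 : Function.Bijective (lam : (Fin n → ZMod p) → AddChar (Fin n → ZMod p) ℂ) := by
    rw [Fintype.bijective_iff_injective_and_card]
    exact ⟨lam_injective, (card_addChar _).symm⟩
  exact h2.2 χ

theorem lam_zero : lam (0 : Fin n → ZMod p) = 1 := by
  ext a
  rw [lam_apply]
  simp

/-- two characters agree if they agree on the basis -/
theorem ext_basis {χ χ' : AddChar (Fin n → ZMod p) ℂ} (h : ∀ i, χ (Pi.single i 1) = χ' (Pi.single i 1)) : χ = χ' := by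
  obtain ⟨w, rfl⟩ := exists_lam χ
  obtain ⟨w', rfl⟩ := exists_lam χ'
  congr 1
  funext i
  have h1 := h i
  rw [lam_single, lam_single] at h1
  exact ZMod.injective_stdAddChar h1

/-! ### the action -/

variable {G : Type*} [Group G] {x : (Fin n → ZMod p) → G}

theorem x_zero (hx : ∀ a b, x (a + b) = x a * x b) : x 0 = 1 := by
  have := hx 0 0
  rw [add_zero] at this
  exact (mul_eq_left.mp this.symm)

/-- an element normalising the subgroup -/
structure Nrm (x : (Fin n → ZMod p) → G) (g : G) (M : Fin n → Fin n → ZMod p) : Prop where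
  img : ∀ i, g * x (Pi.single i 1) * g⁻¹ = x (M i)

theorem closure_single : AddSubgroup.closure (Set.range fun i : Fin n => (Pi.single i 1 : Fin n → ZMod p)) = ⊤ := by
  rw [eq_top_iff]
  intro a _
  have h1 : a = ∑ i, (a i).val • (Pi.single i 1 : Fin n → ZMod p) := by
    funext j
    rw [Finset.sum_apply, Finset.sum_eq_single j]
    · rw [Pi.smul_apply, Pi.single_eq_same, nsmul_eq_mul, mul_one, ZMod.natCast_zmod_val]
    · intro b _ hb
      rw [Pi.smul_apply, Pi.single_eq_of_ne (Ne.symm hb), smul_zero]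
    · intro h; exact absurd (Finset.mem_univ j) h
  rw [h1]
  exact AddSubgroup.sum_mem _ fun i _ => AddSubgroup.nsmul_mem _ (AddSubgroup.subset_closure (Set.mem_range_self i)) _

/-- the linear map of a normalising element -/
theorem Nrm.exists_map (hx : ∀ a b, x (a + b) = x a * x b) (hi : Function.Injective x) {g : G}
    {M : Fin n → Fin n → ZMod p} (h : Nrm x g M) :
    ∃ f : (Fin n → ZMod p) → (Fin n → ZMod p), Function.Bijective f ∧ (∀ a, g * x a = x (f a) * g) ∧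
      (∀ a b, f (a + b) = f a + f b) ∧ ∀ i, f (Pi.single i 1) = M i := by
  have key : ∀ a, ∃ b, g * x a * g⁻¹ = x b := by
    intro a
    have ha : a ∈ AddSubgroup.closure (Set.range fun i : Fin n => (Pi.single i 1 : Fin n → ZMod p)) := by
      rw [closure_single]; trivial
    induction ha using AddSubgroup.closure_induction with
    | mem a ha =>
      obtain ⟨i, rfl⟩ := ha
      exact ⟨_, h.img i⟩
    | zero => exact ⟨0, by rw [x_zero hx, mul_one, mul_inv_cancel]⟩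
    | add a b _ _ iha ihb =>
      obtain ⟨a', ha'⟩ := iha
      obtain ⟨b', hb'⟩ := ihb
      exact ⟨a' + b', by rw [hx, hx, ← ha', ← hb']; group⟩
    | neg a _ iha =>
      obtain ⟨a', ha'⟩ := iha
      refine ⟨-a', ?_⟩
      have e1 : ∀ a, x (-a) = (x a)⁻¹ := fun a => by
        apply eq_inv_of_mul_eq_one_left
        rw [← hx, neg_add_cancel, x_zero hx]
      rw [e1, e1, ← ha']
      group
  choose f hf using key
  have hadd : ∀ a b, f (a + b) = f a + f b := by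
    intro a b
    apply hi
    rw [hx, ← hf, ← hf, ← hf, hx]
    group
  refine ⟨f, ?_, fun a => ?_, hadd, fun i => ?_⟩
  · refine Finite.injective_iff_bijective.1 fun a b hab => ?_
    apply hi
    have h1 := (hf a).trans ((congrArg x hab).trans (hf b).symm)
    exact mul_left_cancel (mul_right_cancel h1)
  · rw [← hf]; group
  · apply hi
    rw [← hf, h.img]

variable {W : Type*} [AddCommGroup W] [Module ℂ W] [FiniteDimensional ℂ W]

/-- the multiplicity of a code -/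
noncomputable def mul (x : (Fin n → ZMod p) → G) (ρ : Representation ℂ G W) (c : ℕ) : ℕ :=
  finrank ℂ (wt (fun a => ρ (x a)) (lam (dig p n c)))

/-- the numerical condition: the code `c'` is the transform of `c` -/
def stepOK (p n : ℕ) (M : List (List ℕ)) (c c' : ℕ) : Bool :=
  (List.range n).all fun i =>
    Nat.beq ((((List.range n).map fun k => dg p c k * ((M.getD i []).getD k 0)).sum) % p) (dg p c' i)

/-- the matrix of the list -/
def mat (p n : ℕ) (M : List (List ℕ)) : Fin n → Fin n → ZMod p := fun i k => (((M.getD i []).getD k 0 : ℕ) : ZMod p)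

theorem mul_step (hx : ∀ a b, x (a + b) = x a * x b) (hi : Function.Injective x) (ρ : Representation ℂ G W) {g : G}
    {M : List (List ℕ)} (h : Nrm x g (mat p n M)) {c c' : ℕ} (hc : stepOK p n M c c' = true) :
    mul x ρ c' = mul x ρ c := by
  obtain ⟨f, hf, hg, hadd, hs⟩ := h.exists_map hx hi
  refine finrank_wt_eq ρ hg hf fun a => ?_
  -- `lam c (f a) = lam c' a`
  let χ : AddChar (Fin n → ZMod p) ℂ :=
    { toFun := fun a => lam (dig p n c) (f a)
      map_zero_eq_one' := by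
        have h0 : f 0 = 0 := by
          have := hadd 0 0
          rw [add_zero] at this
          exact (left_eq_add.1 this)
        rw [h0, AddChar.map_zero_eq_one]
      map_add_eq_mul' := fun a b => by rw [hadd, AddChar.map_add_eq_mul] }
  have h1 : χ = lam (dig p n c') := by
    refine ext_basis fun i => ?_
    show lam (dig p n c) (f (Pi.single i 1)) = _
    rw [hs, lam_single, lam_apply]
    congr 1
    have h2 := List.all_eq_true.1 hc i (List.mem_range.2 i.2)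
    have h3 := Nat.eq_of_beq_eq_true h2
    show ∑ k, dig p n c k * mat p n M i k = dig p n c' i
    simp only [dig, mat]
    rw [← h3, ZMod.natCast_mod, Nat.cast_list_sum, List.map_map, sum_list]
    refine Finset.sum_congr rfl fun k _ => ?_
    simp only [Function.comp_apply, Nat.cast_mul]
  exact (congrArg (fun χ : AddChar (Fin n → ZMod p) ℂ => χ a) h1).symm ▸ rfl

/-! ### The tree -/

/-- an entry: parent, generator, depth, root -/
abbrev Ent := ℕ × ℕ × ℕ × ℕ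

/-- the root of a code -/
def rt (T : List Ent) (c : ℕ) : ℕ := (T.getD c (0, 0, 0, 0)).2.2.2

/-- the check of the tree -/
def treeOK (p n : ℕ) (Ms : List (List (List ℕ))) (T : List Ent) : Bool :=
  (List.range (p ^ n)).all fun c =>
    match T.getD c (0, 0, 0, 0) with
    | (par, gen, dep, root) => Nat.beq root c ||
      (match T.getD par (0, 0, 0, 0) with
      | (_, _, dep', root') => Nat.blt dep' dep && (Nat.beq root' root && (Nat.blt par (p ^ n) &&
        (Nat.blt gen Ms.length && stepOK p n (Ms.getD gen []) par c))))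

/-- the multiplicities are constant on the orbits -/
theorem const (hx : ∀ a b, x (a + b) = x a * x b) (hi : Function.Injective x) (ρ : Representation ℂ G W)
    {Ms : List (List (List ℕ))} (hM : ∀ j < Ms.length, ∃ g : G, Nrm x g (mat p n (Ms.getD j []))) {T : List Ent}
    (hT : treeOK p n Ms T = true) : ∀ {c : ℕ}, c < p ^ n → mul x ρ c = mul x ρ (rt T c) := by
  have key : ∀ (d : ℕ) {c : ℕ}, c < p ^ n → (T.getD c (0, 0, 0, 0)).2.2.1 < d → mul x ρ c = mul x ρ (rt T c) := by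
    intro d
    induction d with
    | zero => intro c _ h; exact absurd h (Nat.not_lt_zero _)
    | succ d ih =>
      intro c hc hd
      have h1 := List.all_eq_true.1 hT c (List.mem_range.2 hc)
      rcases hc1 : T.getD c (0, 0, 0, 0) with ⟨par, gen, dep, root⟩
      rcases hc2 : T.getD par (0, 0, 0, 0) with ⟨par', gen', dep', root'⟩
      rw [hc1] at h1 hd
      simp only [hc2, Bool.or_eq_true, Bool.and_eq_true, Nat.blt_eq] at h1
      have hr : rt T c = root := by rw [rt, hc1]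
      rcases h1 with h1 | ⟨h1, h2, h3, h4, h5⟩
      · rw [hr, Nat.eq_of_beq_eq_true h1]
      · obtain ⟨g, hg⟩ := hM gen h4
        rw [mul_step hx hi ρ hg h5, ih h3 (by rw [hc2]; exact lt_of_lt_of_le h1 (Nat.lt_succ_iff.1 hd)), hr]
        have h6 : rt T par = root' := by rw [rt, hc2]
        rw [h6, Nat.eq_of_beq_eq_true h2]
  intro c hc
  exact key _ hc (Nat.lt_succ_self _)

/-- the number of codes with root `r` -/
def cnt (p n : ℕ) (T : List Ent) (r : ℕ) : ℕ := ((List.range (p ^ n)).filter fun c => Nat.beq (rt T c) r).length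

/-- the check of the roots -/
def rootsOK (p n B : ℕ) (T : List Ent) (rs : List ℕ) : Bool :=
  ((List.range (p ^ n)).all fun c => Nat.beq c 0 || rs.any fun r => Nat.beq (rt T c) r) &&
    rs.all fun r => Nat.ble B (cnt p n T r)

theorem card_le (hx : ∀ a b, x (a + b) = x a * x b) (ρ : Representation ℂ G W) (l : List ℕ) (hl : l.Nodup)
    (hlt : ∀ c ∈ l, c < p ^ n) {m : ℕ} (hm : ∀ c ∈ l, m ≤ mul x ρ c) : m * l.length ≤ finrank ℂ W := by
  classical
  have h1 := mul_card_le (isAct_of ρ hx) (l.toFinset.image fun c => lam (dig p n c)) m (by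
    intro χ hχ
    obtain ⟨c, hc, rfl⟩ := Finset.mem_image.1 hχ
    exact hm c (List.mem_toFinset.1 hc))
  rw [Finset.card_image_of_injOn, List.toFinset_card_of_nodup hl] at h1
  · exact h1
  · intro c hc c' hc' h
    exact dig_inj (hlt c (List.mem_toFinset.1 hc)) (hlt c' (List.mem_toFinset.1 hc')) (lam_injective h)

/-- **The degree bound.** -/
theorem le_finrank [IsSimpleGroup G] (hx : ∀ a b, x (a + b) = x a * x b) (hi : Function.Injective x)
    (ρ : Representation ℂ G W) (hρ : ∃ g, ρ g ≠ 1) (hn : 0 < n)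
    {Ms : List (List (List ℕ))} (hM : ∀ j < Ms.length, ∃ g : G, Nrm x g (mat p n (Ms.getD j []))) {T : List Ent}
    (hT : treeOK p n Ms T = true) {B : ℕ} {rs : List ℕ} (hB : rootsOK p n B T rs = true) : B ≤ finrank ℂ W := by
  have h1 : x (Pi.single ⟨0, hn⟩ 1) ≠ 1 := by
    rw [← x_zero hx]
    intro h
    have h2 := congrFun (hi h) ⟨0, hn⟩
    rw [Pi.single_eq_same] at h2
    exact one_ne_zero h2
  obtain ⟨χ, hχ, hχ1⟩ := exists_wt (isAct_of ρ hx) (a := Pi.single ⟨0, hn⟩ 1) (faithful ρ hρ h1)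
  obtain ⟨w, rfl⟩ := exists_lam χ
  obtain ⟨c, hc, rfl⟩ := dig_surj w
  have hc0 : c ≠ 0 := by
    rintro rfl
    apply hχ1
    have h2 : dig p n 0 = 0 := by
      funext i
      simp [dig, dg]
    rw [h2, lam_zero]
    rfl
  have hpos : 1 ≤ mul x ρ c := by
    rw [Nat.one_le_iff_ne_zero]
    intro h
    exact hχ (Submodule.finrank_eq_zero.1 h)
  rw [rootsOK, Bool.and_eq_true] at hB
  have h3 := List.all_eq_true.1 hB.1 c (List.mem_range.2 hc)
  rw [Bool.or_eq_true, List.any_eq_true] at h3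
  rcases h3 with h3 | ⟨r, hr, h3⟩
  · exact absurd (Nat.eq_of_beq_eq_true h3) hc0
  have h4 := Nat.le_of_ble_eq_true (List.all_eq_true.1 hB.2 r hr)
  have h5 := Nat.eq_of_beq_eq_true h3
  have h6 := card_le hx ρ ((List.range (p ^ n)).filter fun c => Nat.beq (rt T c) r) (List.nodup_range.filter _)
    (fun c' hc' => List.mem_range.1 (List.mem_filter.1 hc').1) (m := 1) (by
      intro c' hc'
      obtain ⟨h7, h8⟩ := List.mem_filter.1 hc'
      rw [const hx hi ρ hM hT (List.mem_range.1 h7), Nat.eq_of_beq_eq_true h8, ← h5, ← const hx hi ρ hM hT hc]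
      exact hpos)
  rw [one_mul] at h6
  exact h4.trans h6

end Cfsg.Agent.H133.Ore.Orb
end

-- part: H133/Ore/SuzOrb
section
/-!
# ORE (S2443): `Suz`, the orbits of `M₁₁` on the characters of `3⁵` (helper133)

The orbits have lengths 110 and 132, so the nontrivial complex representations have degree at least 110.
-/

set_option autoImplicit false
set_option maxRecDepth 100000

namespace Cfsg.Agent.H133.Ore.SuzOrb

open Cfsg Cfsg.Spor Cfsg.Agent.Lib.PermNet Cfsg.Agent.Lib.PermNetOrbit Cfsg.Agent.SporadicRecognition.SuzPhi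
  Cfsg.Agent.SporadicRecognition.SuzBound Cfsg.Agent.SporadicRecognition.SuzOrder
  Cfsg.Agent.SuzThree.Nets Cfsg.Agent.SuzThree.Basic Cfsg.Agent.SuzThree.Elts
  Cfsg.Agent.SuzThree.Elementary Cfsg.Agent.SuzThree.NormElts
open Cfsg.Agent.H133.Ore.Orb

/-- the parametrised subgroup -/
noncomputable def x5 (a : Fin 5 → ZMod 3) : Suz := E (a 0, a 1, a 2, a 3, a 4)

theorem x5_add (a b : Fin 5 → ZMod 3) : x5 (a + b) = x5 a * x5 b := by
  unfold x5
  rw [← E_add]
  rfl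

theorem x5_inj : Function.Injective x5 := by
  intro a b h
  have h1 := E_injective h
  simp only [Prod.mk.injEq] at h1
  funext i
  fin_cases i
  · exact h1.1
  · exact h1.2.1
  · exact h1.2.2.1
  · exact h1.2.2.2.1
  · exact h1.2.2.2.2

theorem img {w : List Suz.Gen} {f : Ix} {v : V}
    (h : checkEq 11 (wd w ++ [xN f] ++ wd w.reverse) (eW v) = true) : el w * E (vec f) * (el w)⁻¹ = E v := by
  have h1 : Rep (el w * x f * el w.reverse) (wd w ++ [xN f] ++ wd w.reverse) :=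
    ((Rep.el w).mul (rep_x f)).mul (Rep.el _)
  rw [← x_eq, ← el_reverse]
  exact eq_of_reps h1 (rep_E v) h

/-- the matrix -/
def M0 : List (List ℕ) := [[1, 0, 0, 0, 0], [0, 0, 0, 1, 0], [1, 2, 2, 2, 0], [0, 1, 0, 0, 0], [2, 2, 2, 0, 1]]

theorem img00 : el (nw .j0) * E (vec .i0) * (el (nw .j0))⁻¹ = E (1, 0, 0, 0, 0) := img (by decide +kernel)
theorem img01 : el (nw .j0) * E (vec .i1) * (el (nw .j0))⁻¹ = E (0, 0, 0, 1, 0) := img (by decide +kernel)
theorem img02 : el (nw .j0) * E (vec .i2) * (el (nw .j0))⁻¹ = E (1, 2, 2, 2, 0) := img (by decide +kernel)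
theorem img03 : el (nw .j0) * E (vec .i3) * (el (nw .j0))⁻¹ = E (0, 1, 0, 0, 0) := img (by decide +kernel)
theorem img04 : el (nw .j0) * E (vec .i4) * (el (nw .j0))⁻¹ = E (2, 2, 2, 0, 1) := img (by decide +kernel)

theorem nrm0 : Nrm x5 (el (nw .j0)) (mat 3 5 M0) := by
  refine ⟨fun i => ?_⟩
  fin_cases i
  · exact img00
  · exact img01
  · exact img02
  · exact img03
  · exact img04

/-- the matrix -/
def M1 : List (List ℕ) := [[1, 0, 0, 0, 0], [0, 0, 1, 0, 0], [0, 1, 0, 0, 0], [1, 2, 2, 2, 0], [0, 0, 0, 0, 1]]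

theorem img10 : el (nw .j1) * E (vec .i0) * (el (nw .j1))⁻¹ = E (1, 0, 0, 0, 0) := img (by decide +kernel)
theorem img11 : el (nw .j1) * E (vec .i1) * (el (nw .j1))⁻¹ = E (0, 0, 1, 0, 0) := img (by decide +kernel)
theorem img12 : el (nw .j1) * E (vec .i2) * (el (nw .j1))⁻¹ = E (0, 1, 0, 0, 0) := img (by decide +kernel)
theorem img13 : el (nw .j1) * E (vec .i3) * (el (nw .j1))⁻¹ = E (1, 2, 2, 2, 0) := img (by decide +kernel)
theorem img14 : el (nw .j1) * E (vec .i4) * (el (nw .j1))⁻¹ = E (0, 0, 0, 0, 1) := img (by decide +kernel)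

theorem nrm1 : Nrm x5 (el (nw .j1)) (mat 3 5 M1) := by
  refine ⟨fun i => ?_⟩
  fin_cases i
  · exact img10
  · exact img11
  · exact img12
  · exact img13
  · exact img14

/-- the matrix -/
def M2 : List (List ℕ) := [[1, 0, 0, 0, 0], [0, 1, 0, 0, 0], [2, 1, 0, 2, 1], [0, 2, 1, 1, 1], [1, 1, 2, 1, 1]]

theorem img20 : el (nw .j2) * E (vec .i0) * (el (nw .j2))⁻¹ = E (1, 0, 0, 0, 0) := img (by decide +kernel)
theorem img21 : el (nw .j2) * E (vec .i1) * (el (nw .j2))⁻¹ = E (0, 1, 0, 0, 0) := img (by decide +kernel)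
theorem img22 : el (nw .j2) * E (vec .i2) * (el (nw .j2))⁻¹ = E (2, 1, 0, 2, 1) := img (by decide +kernel)
theorem img23 : el (nw .j2) * E (vec .i3) * (el (nw .j2))⁻¹ = E (0, 2, 1, 1, 1) := img (by decide +kernel)
theorem img24 : el (nw .j2) * E (vec .i4) * (el (nw .j2))⁻¹ = E (1, 1, 2, 1, 1) := img (by decide +kernel)

theorem nrm2 : Nrm x5 (el (nw .j2)) (mat 3 5 M2) := by
  refine ⟨fun i => ?_⟩
  fin_cases i
  · exact img20
  · exact img21
  · exact img22
  · exact img23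
  · exact img24

/-- the matrix -/
def M3 : List (List ℕ) := [[1, 0, 0, 0, 0], [1, 1, 1, 0, 2], [0, 1, 2, 2, 2], [2, 2, 1, 2, 2], [2, 1, 0, 2, 1]]

theorem img30 : el (nw .j3) * E (vec .i0) * (el (nw .j3))⁻¹ = E (1, 0, 0, 0, 0) := img (by decide +kernel)
theorem img31 : el (nw .j3) * E (vec .i1) * (el (nw .j3))⁻¹ = E (1, 1, 1, 0, 2) := img (by decide +kernel)
theorem img32 : el (nw .j3) * E (vec .i2) * (el (nw .j3))⁻¹ = E (0, 1, 2, 2, 2) := img (by decide +kernel)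
theorem img33 : el (nw .j3) * E (vec .i3) * (el (nw .j3))⁻¹ = E (2, 2, 1, 2, 2) := img (by decide +kernel)
theorem img34 : el (nw .j3) * E (vec .i4) * (el (nw .j3))⁻¹ = E (2, 1, 0, 2, 1) := img (by decide +kernel)

theorem nrm3 : Nrm x5 (el (nw .j3)) (mat 3 5 M3) := by
  refine ⟨fun i => ?_⟩
  fin_cases i
  · exact img30
  · exact img31
  · exact img32
  · exact img33
  · exact img34

/-- the matrix -/
def M4 : List (List ℕ) := [[2, 0, 0, 0, 0], [0, 0, 0, 2, 0], [0, 2, 1, 1, 1], [1, 2, 2, 2, 0], [0, 0, 2, 0, 0]]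

theorem img40 : el (nw .j4) * E (vec .i0) * (el (nw .j4))⁻¹ = E (2, 0, 0, 0, 0) := img (by decide +kernel)
theorem img41 : el (nw .j4) * E (vec .i1) * (el (nw .j4))⁻¹ = E (0, 0, 0, 2, 0) := img (by decide +kernel)
theorem img42 : el (nw .j4) * E (vec .i2) * (el (nw .j4))⁻¹ = E (0, 2, 1, 1, 1) := img (by decide +kernel)
theorem img43 : el (nw .j4) * E (vec .i3) * (el (nw .j4))⁻¹ = E (1, 2, 2, 2, 0) := img (by decide +kernel)
theorem img44 : el (nw .j4) * E (vec .i4) * (el (nw .j4))⁻¹ = E (0, 0, 2, 0, 0) := img (by decide +kernel)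

theorem nrm4 : Nrm x5 (el (nw .j4)) (mat 3 5 M4) := by
  refine ⟨fun i => ?_⟩
  fin_cases i
  · exact img40
  · exact img41
  · exact img42
  · exact img43
  · exact img44

/-- the matrix -/
def M5 : List (List ℕ) := [[0, 2, 0, 0, 0], [2, 0, 0, 0, 0], [0, 0, 0, 1, 0], [0, 0, 1, 0, 0], [1, 1, 2, 1, 1]]

theorem img50 : el (nw .j5) * E (vec .i0) * (el (nw .j5))⁻¹ = E (0, 2, 0, 0, 0) := img (by decide +kernel)
theorem img51 : el (nw .j5) * E (vec .i1) * (el (nw .j5))⁻¹ = E (2, 0, 0, 0, 0) := img (by decide +kernel)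
theorem img52 : el (nw .j5) * E (vec .i2) * (el (nw .j5))⁻¹ = E (0, 0, 0, 1, 0) := img (by decide +kernel)
theorem img53 : el (nw .j5) * E (vec .i3) * (el (nw .j5))⁻¹ = E (0, 0, 1, 0, 0) := img (by decide +kernel)
theorem img54 : el (nw .j5) * E (vec .i4) * (el (nw .j5))⁻¹ = E (1, 1, 2, 1, 1) := img (by decide +kernel)

theorem nrm5 : Nrm x5 (el (nw .j5)) (mat 3 5 M5) := by
  refine ⟨fun i => ?_⟩
  fin_cases i
  · exact img50
  · exact img51
  · exact img52
  · exact img53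
  · exact img54

/-- the matrices -/
def Ms : List (List (List ℕ)) := [M0, M1, M2, M3, M4, M5]

theorem hM : ∀ j < Ms.length, ∃ g : Suz, Nrm x5 g (mat 3 5 (Ms.getD j [])) := by
  intro j hj
  have hj' : j < 6 := hj
  interval_cases j
  · exact ⟨_, nrm0⟩
  · exact ⟨_, nrm1⟩
  · exact ⟨_, nrm2⟩
  · exact ⟨_, nrm3⟩
  · exact ⟨_, nrm4⟩
  · exact ⟨_, nrm5⟩

/-- the tree -/
def T : List Ent := [(0, 0, 0, 0), (0, 0, 0, 1), (165, 5, 4, 1), (83, 5, 4, 1), (220, 2, 2, 1), (77, 2, 4, 1), (45, 1, 3, 1), (100, 3, 2, 1), (20, 1, 4, 1), (57, 1, 4, 1), (4, 1, 3, 1), (166, 4, 3, 1), (29, 5, 2, 1), (218, 4, 4, 1), (142, 4, 3, 1), (109, 5, 3, 1), (0, 0, 0, 16), (28, 4, 2, 1), (33, 1, 5, 1), (199, 3, 3, 1), (164, 0, 3, 1), (126, 3, 3, 1), (199, 0, 3, 1), (71, 1, 5, 16), (165, 3, 4, 1), (142, 3, 3, 1), (220, 5, 2, 1), (126, 2, 3, 1), (1, 1, 1, 1), (1, 4, 1, 1), (165, 2, 4, 1), (130, 0, 3, 1), (220, 4, 2, 1), (10, 5, 4, 1), (142, 2, 3,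 1), (74, 1, 3, 16), (72, 2, 4, 1), (58, 1, 3, 16), (82, 4, 4, 1), (12, 1, 3, 1), (208, 3, 3, 16), (212, 0, 3, 16), (199, 5, 3, 1), (220, 0, 2, 1), (121, 5, 2, 16), (87, 4, 2, 1), (82, 3, 4, 1), (62, 1, 4, 1), (65, 5, 4, 1), (16, 1, 1, 16), (44, 1, 3, 16), (192, 4, 5, 16), (232, 5, 2, 16), (26, 1, 3, 1), (225, 2, 3, 1), (13, 3, 5, 1), (89, 0, 4, 1), (195, 0, 3, 1), (121, 2, 2, 16), (65, 1, 4, 1), (100, 5, 2, 1), (19, 1, 4, 1), (17, 2, 3, 1), (126, 5, 3, 1), (31, 1, 4, 1), (164, 3, 3, 1), (209, 5, 2, 16), (34, 0, 4, 1), (41, 1, 4, 16), (27, 4, 4, 1), (238, 3, 3, 16), (206, 2, 4, 16), (60, 1, 3, 1), (109, 2, 3, 1), (209, 2, 2, 16), (42, 0, 4, 1), (175, 2, 4, 16), (17, 1, 3, 1), (235, 5, 4, 1), (52, 1, 3, 16), (193, 4, 3, 16), (183, 4, 4, 1), (109, 1, 3, 1), (137, 1, 3, 1), (164, 5, 3, 1), (77, 4, 4, 1), (235, 4, 4, 1), (1, 5, 1, 1), (232, 3, 2, 16), (166, 5, 3, 1), (27, 5, 4, 1), (163, 0, 5, 1), (206, 3, 4, 16), (240,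 4, 4, 16), (133, 3, 4, 16), (29, 0, 2, 1), (126, 4, 3, 1), (130, 1, 3, 1), (158, 1, 4, 16), (216, 5, 4, 1), (1, 2, 1, 1), (89, 1, 4, 1), (177, 3, 3, 1), (124, 1, 4, 16), (209, 0, 2, 16), (159, 1, 4, 1), (134, 4, 4, 16), (49, 4, 2, 16), (42, 3, 4, 1), (172, 3, 2, 1), (184, 4, 3, 16), (11, 5, 4, 1), (76, 3, 5, 16), (212, 2, 3, 16), (99, 1, 5, 1), (148, 0, 5, 16), (155, 1, 4, 1), (12, 0, 3, 1), (193, 3, 3, 16), (11, 2, 4, 1), (93, 1, 5, 16), (16, 3, 1, 16), (149, 1, 4, 16), (37, 5, 4, 16), (154, 3, 3, 16), (50, 3, 4, 16), (87, 1, 2, 1), (188, 4, 4, 16), (103, 4, 5, 16), (146, 5, 4, 16), (28, 3, 2, 1), (79, 4, 4, 16), (226, 5, 2, 16), (160, 1, 3, 16), (107, 1, 3, 16), (96, 0, 4, 1), (25, 0, 4, 1), (100, 4, 2, 1), (63, 3, 4, 1), (238, 2, 3, 16), (146, 1, 4, 16), (240, 0, 4, 16), (100, 1, 2, 1), (134, 2, 4, 16), (84, 1, 4, 1), (37, 2, 4, 16), (107, 0, 3, 16), (72, 4, 4, 1), (134, 5, 4, 16), (212, 5, 3, 16), (129, 1, 5,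 16), (157, 1, 3, 16), (49, 5, 2, 16), (141, 1, 5, 16), (226, 2, 2, 16), (17, 0, 3, 1), (192, 2, 5, 16), (49, 2, 2, 16), (238, 4, 3, 16), (60, 0, 3, 1), (232, 0, 2, 16), (238, 5, 3, 16), (96, 4, 4, 1), (97, 3, 4, 1), (172, 4, 2, 1), (225, 1, 3, 1), (172, 1, 2, 1), (148, 4, 5, 16), (82, 5, 4, 1), (235, 0, 4, 1), (137, 0, 3, 1), (177, 4, 3, 1), (1, 0, 1, 1), (10, 4, 4, 1), (144, 4, 5, 1), (229, 1, 3, 16), (229, 4, 3, 16), (28, 5, 2, 1), (79, 3, 4, 16), (209, 3, 2, 16), (195, 1, 3, 1), (157, 3, 3, 16), (170, 1, 4, 1), (177, 1, 3, 1), (196, 3, 2, 16), (233, 1, 4, 1), (240, 1, 4, 16), (10, 3, 4, 1), (215, 1, 3, 16), (12, 4, 3, 1), (82, 2, 4, 1), (97, 4, 4, 1), (198, 1, 4, 16), (226, 1, 2, 16), (14, 3, 4, 1), (172, 5, 2, 1), (16, 5, 1, 16), (158, 0, 4, 16), (132, 3, 3, 16), (28, 2, 2, 1), (239, 3, 4, 16), (21, 2, 4, 1), (139, 3, 4, 16), (35, 3, 4, 16), (66, 3, 3, 16), (184, 1, 3, 16), (212, 1, 3, 16), (168, 1, 5, 1), (196,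 1, 2, 16), (16, 4, 1, 16), (227, 5, 4, 16), (40, 2, 4, 16), (226, 4, 2, 16), (6, 2, 4, 1), (206, 4, 4, 16), (121, 4, 2, 16), (177, 0, 3, 1), (208, 2, 3, 16), (164, 1, 3, 1), (171, 1, 4, 1), (1, 3, 1, 1), (232, 4, 2, 16), (19, 5, 4, 1), (151, 2, 4, 16), (209, 1, 2, 16), (87, 0, 2, 1), (16, 0, 1, 16), (221, 1, 3, 16), (128, 5, 6, 16), (49, 3, 2, 16), (70, 4, 4, 16), (208, 5, 3, 16), (16, 2, 1, 16), (199, 4, 3, 1), (27, 3, 4, 1), (166, 3, 3, 1), (175, 4, 4, 16), (74, 5, 3, 16), (232, 1, 2, 16), (179, 1, 3, 16), (154, 5, 3, 16), (70, 0, 4, 16), (37, 4, 4, 16)]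

private theorem _root_.Cfsg.Agent.KO4234d25.e8.{ku, kv} {α : Type kv} {M : List α → Sort ku} (φ : ∀ l, M l) {z : M List.nil} {s : ∀ a l, M l → M (List.cons a l)} (h0 : φ List.nil = z) (hs : ∀ a l, φ (List.cons a l) = s a l (φ l)) (l : List α) : φ l = @List.rec α M z s l := List.rec h0 (fun a l ih => (hs a l).trans (congrArg (s a l) ih)) l
private noncomputable def _root_.Cfsg.Agent.KO4234d25.k9.{ku0, ku1} : type_of% @List.map.{ku0, ku1} := @(fun x0 x1 x2 x3 => @List.rec.{(ku1+1), ku0} @x0 @(fun x4 => @List.{ku1} @x1) [] @(fun x4 x5 x6 => (@x2 @x4) :: @x6) @x3)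
private theorem _root_.Cfsg.Agent.KO4234d25.e9.{ku0, ku1} : @List.map.{ku0, ku1} = @_root_.Cfsg.Agent.KO4234d25.k9.{ku0, ku1} := by delta _root_.Cfsg.Agent.KO4234d25.k9; funext a0 a1 a2 a3; refine (_root_.Cfsg.Agent.KO4234d25.e8 (fun a3 => @List.map.{ku0, ku1} a0 a1 a2 a3) ?_ (fun c0 c1 => ?_) a3 :) <;> (rfl')
private theorem _root_.Cfsg.Agent.KO4234d25.e17.{ku} {M : Nat → Sort ku} (φ : ∀ n, M n) {z : M Nat.zero} {s : ∀ n, M n → M (Nat.succ n)} (h0 : φ Nat.zero = z) (hs : ∀ n, φ (Nat.succ n) = s n (φ n)) (n : Nat) : φ n = @Nat.rec M z s n := Nat.rec h0 (fun n ih => (hs n).trans (congrArg (s n) ih)) n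
private noncomputable def _root_.Cfsg.Agent.KO4234d25.k21.{ku0} : type_of% @List.all.{ku0} := @(fun x0 x1 x2 => @List.rec.{(ku0+1), ku0} @x0 @(fun x3 => (@x0 → @Bool) → @Bool) @(fun x3 => @Bool.true) @(fun x3 x4 x5 x6 => @Bool.rec.{1} @(fun x7 => @Bool) @Bool.false (@x5 @x6) (@x6 @x3)) @x1 @x2)
private theorem _root_.Cfsg.Agent.KO4234d25.e21.{ku0} : @List.all.{ku0} = @_root_.Cfsg.Agent.KO4234d25.k21.{ku0} := by delta _root_.Cfsg.Agent.KO4234d25.k21; funext a0 a1 a2; refine (congrFun (_root_.Cfsg.Agent.KO4234d25.e8 (fun a1 a2 => @List.all.{ku0} a0 a1 a2) ?_ (fun c0 c1 => ?_) a1) a2 :) <;> (rfl')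
private noncomputable def _root_.Cfsg.Agent.KO4234d25.k22 : type_of% @List.range.loop := @(fun x0 x1 => @Nat.rec.{1} @(fun x2 => (@List.{0} ℕ) → @List.{0} ℕ) @(fun x2 => @x2) @(fun x2 x3 x4 => @x3 (@x2 :: @x4)) @x0 @x1)
private theorem _root_.Cfsg.Agent.KO4234d25.e22 : @List.range.loop = @_root_.Cfsg.Agent.KO4234d25.k22 := by delta _root_.Cfsg.Agent.KO4234d25.k22; funext a0 a1; refine (congrFun (_root_.Cfsg.Agent.KO4234d25.e17 (fun a0 a1 => @List.range.loop a0 a1) ?_ (fun c0 => ?_) a0) a1 :) <;> (rfl')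
private noncomputable def _root_.Cfsg.Agent.KO4234d25.k23.{ku0, ku1} : type_of% @List.foldr.{ku0, ku1} := @(fun x0 x1 x2 x3 x4 => @List.rec.{(ku1+1), ku0} @x0 @(fun x5 => @x1) @x3 @(fun x5 x6 x7 => @x2 @x5 @x7) @x4)
private theorem _root_.Cfsg.Agent.KO4234d25.e23.{ku0, ku1} : @List.foldr.{ku0, ku1} = @_root_.Cfsg.Agent.KO4234d25.k23.{ku0, ku1} := by delta _root_.Cfsg.Agent.KO4234d25.k23; funext a0 a1 a2 a3 a4; refine (_root_.Cfsg.Agent.KO4234d25.e8 (fun a4 => @List.foldr.{ku0, ku1} a0 a1 a2 a3 a4) ?_ (fun c0 c1 => ?_) a4 :) <;> (rfl')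
private noncomputable def _root_.Cfsg.Agent.KO4234d25.k24 : (by first | exact type_of% @Cfsg.Agent.H133.Ore.Orb.dg | exact Unit : Sort _) := by first | (refine @Subtype.val _ (fun g => @Cfsg.Agent.H133.Ore.Orb.dg = @g) (@Subtype.mk _ _ (@(fun x0 x1 x2 => @Nat.mod (@Nat.div @x1 (@Nat.pow @x0 @x2)) @x0)) ?_); rfl') | exact @Cfsg.Agent.H133.Ore.Orb.dg | exact ()
private theorem _root_.Cfsg.Agent.KO4234d25.e24 : (by first | exact @Cfsg.Agent.H133.Ore.Orb.dg = @_root_.Cfsg.Agent.KO4234d25.k24 | exact True : Prop) := by first | (delta _root_.Cfsg.Agent.KO4234d25.k24; exact @Subtype.property _ (fun g => @Cfsg.Agent.H133.Ore.Orb.dg = @g) _) | rfl | trivial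
private noncomputable def _root_.Cfsg.Agent.KO4234d25.k26.{ku0} : type_of% @List.get?Internal.{ku0} := @(fun x0 x1 x2 => @List.rec.{(ku0+1), ku0} @x0 @(fun x3 => ℕ → @Option.{ku0} @x0) @(fun x3 => @Option.none.{ku0} _) @(fun x3 x4 x5 x6 => @Nat.rec.{(ku0+1)} @(fun x7 => @Option.{ku0} @x0) (@Option.some.{ku0} _ @x3) @(fun x7 x8 => @x5 @x7) @x6) @x1 @x2)
private theorem _root_.Cfsg.Agent.KO4234d25.e26.{ku0} : @List.get?Internal.{ku0} = @_root_.Cfsg.Agent.KO4234d25.k26.{ku0} := by delta _root_.Cfsg.Agent.KO4234d25.k26; funext a0 a1 a2; refine (congrFun (_root_.Cfsg.Agent.KO4234d25.e8 (fun a1 a2 => @List.get?Internal.{ku0} a0 a1 a2) ?_ (fun c0 c1 => ?_) a1) a2 :) <;> [(funext b0; (rfl')); (funext b0; (cases b0 with | @zero  => (rfl') | @succ b0_0 => (rfl')))]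
private noncomputable def _root_.Cfsg.Agent.KO4234d25.k27 : (by first | exact type_of% @Cfsg.Agent.H133.Ore.Orb.stepOK | exact Unit : Sort _) := by first | (refine @Subtype.val _ (fun g => @Cfsg.Agent.H133.Ore.Orb.stepOK = @g) (@Subtype.mk _ _ (@(fun x0 x1 x2 x3 x4 => @Cfsg.Agent.KO4234d25.k21.{0} _ (@Cfsg.Agent.KO4234d25.k22 @x1 []) @(fun x5 => @Nat.beq (@Nat.mod (@Cfsg.Agent.KO4234d25.k23.{0, 0} _ _ @(fun x6 x7 => @Nat.add @x6 @x7) (nat_lit 0) (@Cfsg.Agent.KO4234d25.k9.{0, 0} _ _ @(fun x6 => @Nat.mul (@Cfsg.Agent.KO4234d25.k24 @x0 @x3 @x6) (@Option.rec.{1, 0} ℕ @(fun x7 => ℕ) (nat_lit 0) @(fun x7 => @x7) (@Cfsg.Agent.KO4234d25.k26.{0} _ (@Option.rec.{1, 0} (@List.{0} ℕ) @(fun x7 => @List.{0} ℕ) [] @(fun x7 => @x7) (@Cfsg.Agent.KO4234d25.k26.{0} _ @x2 @x5)) @x6))) (@Cfsg.Agent.KO4234d25.k22 @x1 []))) @x0) (@Cfsg.Agent.KO4234d25.k24 @x0 @x4 @x5)))) ?_); rewrite [← Cfsg.Agent.KO4234d25.e26.{0}, ← Cfsg.Agent.KO4234d25.e24,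 ← Cfsg.Agent.KO4234d25.e9.{0, 0}, ← Cfsg.Agent.KO4234d25.e23.{0, 0}, ← Cfsg.Agent.KO4234d25.e22, ← Cfsg.Agent.KO4234d25.e21.{0}]; (try delta Cfsg.Agent.H133.Ore.Orb.stepOK); (try generalize @Cfsg.Agent.H133.Ore.Orb.dg = g0); rfl') | exact @Cfsg.Agent.H133.Ore.Orb.stepOK | exact ()
private theorem _root_.Cfsg.Agent.KO4234d25.e27 : (by first | exact @Cfsg.Agent.H133.Ore.Orb.stepOK = @_root_.Cfsg.Agent.KO4234d25.k27 | exact True : Prop) := by first | (delta _root_.Cfsg.Agent.KO4234d25.k27; exact @Subtype.property _ (fun g => @Cfsg.Agent.H133.Ore.Orb.stepOK = @g) _) | rfl | trivial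
private noncomputable def _root_.Cfsg.Agent.KO4234d25.k28.{ku0} : type_of% @List.length.{ku0} := @(fun x0 x1 => @List.rec.{1, ku0} @x0 @(fun x2 => ℕ) (nat_lit 0) @(fun x2 x3 x4 => @Nat.add @x4 (nat_lit 1)) @x1)
private theorem _root_.Cfsg.Agent.KO4234d25.e28.{ku0} : @List.length.{ku0} = @_root_.Cfsg.Agent.KO4234d25.k28.{ku0} := by delta _root_.Cfsg.Agent.KO4234d25.k28; funext a0 a1; refine (_root_.Cfsg.Agent.KO4234d25.e8 (fun a1 => @List.length.{ku0} a0 a1) ?_ (fun c0 c1 => ?_) a1 :) <;> (rfl')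
private noncomputable def _root_.Cfsg.Agent.KO4234d25.k29 : (by first | exact type_of% @Cfsg.Agent.H133.Ore.Orb.treeOK | exact Unit : Sort _) := by first | (refine @Subtype.val _ (fun g => @Cfsg.Agent.H133.Ore.Orb.treeOK = @g) (@Subtype.mk _ _ (@(fun x0 x1 x2 x3 => @Cfsg.Agent.KO4234d25.k21.{0} _ (@Cfsg.Agent.KO4234d25.k22 (@Nat.pow @x0 @x1) []) @(fun x4 => @Prod.rec.{1, 0, 0} ℕ (ℕ × (ℕ × ℕ)) @(fun x5 => @Bool) @(fun x5 x6 => @Prod.rec.{1, 0, 0} ℕ (ℕ × ℕ) @(fun x7 => @Bool) @(fun x7 x8 => @Prod.rec.{1, 0, 0} ℕ ℕ @(fun x9 => @Bool) @(fun x9 x10 => @Bool.rec.{1} @(fun x11 => @Bool) (@Prod.rec.{1, 0, 0} ℕ (ℕ × (ℕ × ℕ)) @(fun x11 => @Bool) @(fun x11 x12 => @Prod.rec.{1, 0, 0} ℕ (ℕ × ℕ) @(fun x13 => @Bool) @(fun x13 x14 => @Prod.rec.{1, 0, 0} ℕ ℕ @(fun x15 => @Bool) @(fun x15 x16 => @Bool.rec.{1} @(fun x17 => @Bool) @Bool.false (@Bool.rec.{1} @(fun x17 => @Bool) @Bool.false (@Bool.rec.{1} @(fun x17 => @Bool) @Bool.false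 (@Bool.rec.{1} @(fun x17 => @Bool) @Bool.false (@Cfsg.Agent.KO4234d25.k27 @x0 @x1 (@Option.rec.{1, 0} (@List.{0} (@List.{0} ℕ)) @(fun x17 => @List.{0} (@List.{0} ℕ)) [] @(fun x17 => @x17) (@Cfsg.Agent.KO4234d25.k26.{0} _ @x2 @x7)) @x5 @x4) (@Nat.ble (@Nat.succ @x7) (@Cfsg.Agent.KO4234d25.k28.{0} _ @x2))) (@Nat.ble (@Nat.succ @x5) (@Nat.pow @x0 @x1))) (@Nat.beq @x16 @x10)) (@Nat.ble (@Nat.succ @x15) @x9)) @x14) @x12) (@Option.rec.{1, 0} @Cfsg.Agent.H133.Ore.Orb.Ent @(fun x11 => @Cfsg.Agent.H133.Ore.Orb.Ent) ((nat_lit 0, (nat_lit 0, (nat_lit 0, nat_lit 0)))) @(fun x11 => @x11) (@Cfsg.Agent.KO4234d25.k26.{0} _ @x3 @x5))) @Bool.true (@Nat.beq @x10 @x4)) @x8) @x6) (@Option.rec.{1, 0} @Cfsg.Agent.H133.Ore.Orb.Ent @(fun x5 => @Cfsg.Agent.H133.Ore.Orb.Ent) ((nat_lit 0, (nat_lit 0, (nat_lit 0, nat_lit 0)))) @(fun x5 => @x5) (@Cfsg.Agent.KO4234d25.k26.{0} _ @x3 @x4))))) ?_); rewrite [← Cfsg.Agent.KO4234d25.e28.{0}, ← Cfsg.Agent.KO4234d25.e26.{0},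 ← Cfsg.Agent.KO4234d25.e27, ← Cfsg.Agent.KO4234d25.e22, ← Cfsg.Agent.KO4234d25.e21.{0}]; (try delta Cfsg.Agent.H133.Ore.Orb.treeOK); (try generalize @Cfsg.Agent.H133.Ore.Orb.stepOK = g0); rfl') | exact @Cfsg.Agent.H133.Ore.Orb.treeOK | exact ()
private theorem _root_.Cfsg.Agent.KO4234d25.e29 : (by first | exact @Cfsg.Agent.H133.Ore.Orb.treeOK = @_root_.Cfsg.Agent.KO4234d25.k29 | exact True : Prop) := by first | (delta _root_.Cfsg.Agent.KO4234d25.k29; exact @Subtype.property _ (fun g => @Cfsg.Agent.H133.Ore.Orb.treeOK = @g) _) | rfl | trivial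

theorem tree : treeOK 3 5 Ms T = true := by (first | (rewrite [Cfsg.Agent.KO4234d25.e29]; decide +kernel) | decide +kernel)

private noncomputable def _root_.Cfsg.Agent.KO4234d25.k30.{ku0} : type_of% @List.filter.{ku0} := @(fun x0 x1 x2 => @List.rec.{(ku0+1), ku0} @x0 @(fun x3 => @List.{ku0} @x0) [] @(fun x3 x4 x5 => @Bool.rec.{(ku0+1)} @(fun x6 => @List.{ku0} @x0) @x5 (@x3 :: @x5) (@x1 @x3)) @x2)
private theorem _root_.Cfsg.Agent.KO4234d25.e30.{ku0} : @List.filter.{ku0} = @_root_.Cfsg.Agent.KO4234d25.k30.{ku0} := by delta _root_.Cfsg.Agent.KO4234d25.k30; funext a0 a1 a2; refine (_root_.Cfsg.Agent.KO4234d25.e8 (fun a2 => @List.filter.{ku0} a0 a1 a2) ?_ (fun c0 c1 => ?_) a2 :) <;> (rfl')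
private noncomputable def _root_.Cfsg.Agent.KO4234d25.k31 : (by first | exact type_of% @Cfsg.Agent.H133.Ore.Orb.rt | exact Unit : Sort _) := by first | (refine @Subtype.val _ (fun g => @Cfsg.Agent.H133.Ore.Orb.rt = @g) (@Subtype.mk _ _ (@(fun x0 x1 => @Prod.snd.{0, 0} _ _ (@Prod.snd.{0, 0} _ _ (@Prod.snd.{0, 0} _ _ (@Option.rec.{1, 0} @Cfsg.Agent.H133.Ore.Orb.Ent @(fun x2 => @Cfsg.Agent.H133.Ore.Orb.Ent) ((nat_lit 0, (nat_lit 0, (nat_lit 0, nat_lit 0)))) @(fun x2 => @x2) (@Cfsg.Agent.KO4234d25.k26.{0} _ @x0 @x1)))))) ?_); rewrite [← Cfsg.Agent.KO4234d25.e26.{0}]; rfl') | exact @Cfsg.Agent.H133.Ore.Orb.rt | exact ()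
private theorem _root_.Cfsg.Agent.KO4234d25.e31 : (by first | exact @Cfsg.Agent.H133.Ore.Orb.rt = @_root_.Cfsg.Agent.KO4234d25.k31 | exact True : Prop) := by first | (delta _root_.Cfsg.Agent.KO4234d25.k31; exact @Subtype.property _ (fun g => @Cfsg.Agent.H133.Ore.Orb.rt = @g) _) | rfl | trivial
private noncomputable def _root_.Cfsg.Agent.KO4234d25.k32 : (by first | exact type_of% @Cfsg.Agent.H133.Ore.Orb.cnt | exact Unit : Sort _) := by first | (refine @Subtype.val _ (fun g => @Cfsg.Agent.H133.Ore.Orb.cnt = @g) (@Subtype.mk _ _ (@(fun x0 x1 x2 x3 => @Cfsg.Agent.KO4234d25.k28.{0} _ (@Cfsg.Agent.KO4234d25.k30.{0} _ @(fun x4 => @Nat.beq (@Cfsg.Agent.KO4234d25.k31 @x2 @x4) @x3) (@Cfsg.Agent.KO4234d25.k22 (@Nat.pow @x0 @x1) [])))) ?_); rewrite [← Cfsg.Agent.KO4234d25.e22, ← Cfsg.Agent.KO4234d25.e31, ← Cfsg.Agent.KO4234d25.e30.{0}, ← Cfsg.Agent.KO4234d25.e28.{0}]; (try delta Cfsg.Agent.H133.Ore.Orb.cnt); (try generalize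 @Cfsg.Agent.H133.Ore.Orb.rt = g0); rfl') | exact @Cfsg.Agent.H133.Ore.Orb.cnt | exact ()
private theorem _root_.Cfsg.Agent.KO4234d25.e32 : (by first | exact @Cfsg.Agent.H133.Ore.Orb.cnt = @_root_.Cfsg.Agent.KO4234d25.k32 | exact True : Prop) := by first | (delta _root_.Cfsg.Agent.KO4234d25.k32; exact @Subtype.property _ (fun g => @Cfsg.Agent.H133.Ore.Orb.cnt = @g) _) | rfl | trivial
private noncomputable def _root_.Cfsg.Agent.KO4234d25.k33.{ku0} : type_of% @List.any.{ku0} := @(fun x0 x1 x2 => @List.rec.{(ku0+1), ku0} @x0 @(fun x3 => (@x0 → @Bool) → @Bool) @(fun x3 => @Bool.false) @(fun x3 x4 x5 x6 => @Bool.rec.{1} @(fun x7 => @Bool) (@x5 @x6) @Bool.true (@x6 @x3)) @x1 @x2)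
private theorem _root_.Cfsg.Agent.KO4234d25.e33.{ku0} : @List.any.{ku0} = @_root_.Cfsg.Agent.KO4234d25.k33.{ku0} := by delta _root_.Cfsg.Agent.KO4234d25.k33; funext a0 a1 a2; refine (congrFun (_root_.Cfsg.Agent.KO4234d25.e8 (fun a1 a2 => @List.any.{ku0} a0 a1 a2) ?_ (fun c0 c1 => ?_) a1) a2 :) <;> (rfl')
private noncomputable def _root_.Cfsg.Agent.KO4234d25.k34 : (by first | exact type_of% @Cfsg.Agent.H133.Ore.Orb.rootsOK | exact Unit : Sort _) := by first | (refine @Subtype.val _ (fun g => @Cfsg.Agent.H133.Ore.Orb.rootsOK = @g) (@Subtype.mk _ _ (@(fun x0 x1 x2 x3 x4 => @Bool.rec.{1} @(fun x5 => @Bool) @Bool.false (@Cfsg.Agent.KO4234d25.k21.{0} _ @x4 @(fun x5 => @Nat.ble @x2 (@Cfsg.Agent.KO4234d25.k32 @x0 @x1 @x3 @x5))) (@Cfsg.Agent.KO4234d25.k21.{0} _ (@Cfsg.Agent.KO4234d25.k22 (@Nat.pow @x0 @x1) []) @(fun x5 => @Bool.rec.{1} @(fun x6 => @Bool) (@Cfsg.Agent.KO4234d25.k33.{0} _ @x4 @(fun x6 => @Nat.beq (@Cfsg.Agent.KO4234d25.k31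 @x3 @x5) @x6)) @Bool.true (@Nat.beq @x5 (nat_lit 0)))))) ?_); rewrite [← Cfsg.Agent.KO4234d25.e31, ← Cfsg.Agent.KO4234d25.e33.{0}, ← Cfsg.Agent.KO4234d25.e22, ← Cfsg.Agent.KO4234d25.e32, ← Cfsg.Agent.KO4234d25.e21.{0}]; (try delta Cfsg.Agent.H133.Ore.Orb.rootsOK); (try generalize @Cfsg.Agent.H133.Ore.Orb.cnt = g0); (try generalize @Cfsg.Agent.H133.Ore.Orb.rt = g1); rfl') | exact @Cfsg.Agent.H133.Ore.Orb.rootsOK | exact ()
private theorem _root_.Cfsg.Agent.KO4234d25.e34 : (by first | exact @Cfsg.Agent.H133.Ore.Orb.rootsOK = @_root_.Cfsg.Agent.KO4234d25.k34 | exact True : Prop) := by first | (delta _root_.Cfsg.Agent.KO4234d25.k34; exact @Subtype.property _ (fun g => @Cfsg.Agent.H133.Ore.Orb.rootsOK = @g) _) | rfl | trivial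

theorem roots : rootsOK 3 5 110 T [1, 16] = true := by (first | (rewrite [Cfsg.Agent.KO4234d25.e34]; decide +kernel) | decide +kernel)

/-- **the degrees of the nontrivial representations of `Suz`** -/
theorem le_finrank [IsSimpleGroup Suz] {W : Type*} [AddCommGroup W] [Module ℂ W] [FiniteDimensional ℂ W]
    (ρ : Representation ℂ Suz W) (hρ : ∃ g, ρ g ≠ 1) : 110 ≤ Module.finrank ℂ W :=
  Orb.le_finrank x5_add x5_inj ρ hρ (by norm_num) hM tree roots

end Cfsg.Agent.H133.Ore.SuzOrb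
end

private theorem dce_fa4f9c822f74 : _root_.True := by
  try have : _root_.True := by simp only [_root_.Cfsg.Agent.H133.Ore.Orb.dg.eq_1]
  try have : _root_.True := by simp only [_root_.Cfsg.Agent.H133.Ore.Orb.rt.eq_1]
  try have : _root_.True := by simp only [_root_.Cfsg.Agent.H133.Ore.Orb.rootsOK.eq_1]
  try have : _root_.True := by simp only [_root_.Cfsg.Agent.H133.Ore.Orb.dig.eq_1]
  try have : _root_.True := by simp only [_root_.Cfsg.Agent.H133.Ore.Orb.mat.eq_1]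
  exact _root_.True.intro
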